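import Groth.Agent.Lib.Contract29.Formal
import Groth.Agent.Lib.RatSing29.GGH1
import Groth.Agent.Lib.RatSing29.PowIdeal
import Groth.Agent.Lib.LeffAmp7.Stalks
import Groth.Agent.Lib.CurveRR.Dual
import Groth.Agent.Lib.HilbObs26.Theory
import Groth.Agent.Lib.VA.VeryAmple

/-!
# Lifting sections from a fibre without first cohomology, spaces without second cohomology
-/

set_option autoImplicit false
set_option linter.all false
set_option backward.isDefEq.respectTransparency false

universe u

open CategoryTheory CategoryTheory.Limits AlgebraicGeometry Opposite TopologicalSpace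
open GrothLib.RatSing29
open GrothLib.Euler (smulMod smulMod_app)

noncomputable section

namespace GrothLib.FibTriv29

variable {A : Type u} [CommRing A] [IsNoetherianRing A] {X E : Scheme.{u}} [X.Over (Spec (CommRingCat.of A))]
  [IsProper (X ↘ Spec (CommRingCat.of A))]

/-- Sections of a coherent module lift from a closed subscheme cut out by functions of the base when its
restriction has no first cohomology. -/
theorem surjective_unit_app
    (h2 : ∀ K : X.Modules, K.IsQuasicoherent → Subsingleton (Coh.HH X K 2))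
    (j : E ⟶ X) [IsClosedImmersion j] {r : ℕ} (a : Fin r → A) (hI : GenBy j.ker a)
    (hone : ∀ b : A, b - 1 ∈ Ideal.span (Set.range a) → j.app ⊤ (gOn X b ⊤) = 1)
    {L : X.Modules} (hL : Coh.IsCoh L)
    (hH : Subsingleton (Coh.HH X ((Scheme.Modules.pushforward j).obj ((Scheme.Modules.pullback j).obj L)) 1)) :
    Function.Surjective (((Scheme.Modules.pullbackPushforwardAdjunction j).unit.app L).app ⊤) := by
  haveI := hL.1
  haveI : CompactSpace X := QuasiCompact.compactSpace_of_compactSpace (X ↘ Spec (CommRingCat.of A))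
  haveI : QuasiSeparatedSpace X := quasiSeparatedSpace_of_quasiSeparated (X ↘ Spec (CommRingCat.of A))
  haveI := K0Sub.isQuasicoherent_pushPull j L
  let P : X.Modules := (Scheme.Modules.pushforward j).obj ((Scheme.Modules.pullback j).obj L)
  let θ : L ⟶ P := (Scheme.Modules.pullbackPushforwardAdjunction j).unit.app L
  haveI : P.IsQuasicoherent := K0Sub.isQuasicoherent_pushPull j L
  haveI : Subsingleton (Coh.HH X P 1) := hH
  haveI : Epi θ := LeffAmp7.epi_unit_closed j L
  let K := kernel θ
  haveI : K.IsQuasicoherent := QCoh.isQuasicoherent_kernel θ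
  let t : Fin r → Coh.Γtop X := fun i => Coh.toGlobal (X ↘ Spec (CommRingCat.of A)) (a i)
  have hz : ∀ i, smulMod L (t i) ≫ θ = 0 := fun i => VA.hom_ext_affine fun U e => by
    refine ((K0Sub.app_unit_surjective_and_ker j L ⟨U.1, U.2⟩).2 _).2 ?_
    show (X.presheaf.map (homOfLE (le_top : U.1 ≤ ⊤)).op (t i) : Γ(X, U.1)) • (e : Γ(L, U.1)) ∈ _
    refine Submodule.smul_mem_smul ?_ trivial
    rw [hI ⟨U.1, U.2⟩]
    exact Ideal.subset_span ⟨i, rfl⟩
  let φ : (⨁ fun _ : Fin r => L) ⟶ K := biproduct.desc fun i => kernel.lift θ (smulMod L (t i)) (hz i)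
  haveI := qc_biproduct (F := fun _ : Fin r => L) fun _ => hL.1
  haveI : Epi φ := K0Sub.epi_of_app_surjective φ fun U w => by
    have hw : ((Scheme.Modules.pullbackPushforwardAdjunction j).unit.app L).app U.1 ((kernel.ι θ).app U.1 w) = 0 := by
      exact congrArg (fun ψ : K ⟶ P => ψ.app U.1 w) (kernel.condition θ)
    have hmem := ((K0Sub.app_unit_surjective_and_ker j L U).2 _).1 hw
    rw [hI U] at hmem
    obtain ⟨c, hc⟩ : ∃ c : Fin r → Γ(L, U.1), ∑ i, gOn X (a i) U.1 • c i = (kernel.ι θ).app U.1 w := by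
      refine Submodule.smul_induction_on hmem (fun q hq n _ => ?_) fun x y => ?_
      · obtain ⟨d, rfl⟩ := Ideal.mem_span_range_iff_exists_fun.1 hq
        exact ⟨fun i => d i • n, by rw [Finset.sum_smul]; exact Finset.sum_congr rfl fun i _ => by rw [smul_smul, mul_comm]⟩
      · rintro ⟨c, rfl⟩ ⟨d, rfl⟩
        exact ⟨c + d, by simp only [Pi.add_apply, smul_add, Finset.sum_add_distrib]⟩
    obtain ⟨s, hs⟩ := exists_section_of_biproduct (F := fun _ : Fin r => L) U.1 c
    refine ⟨s, (IdealModSec.app_kernel θ U.1).1 ?_⟩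
    rw [← hc]
    have e : φ ≫ kernel.ι θ = ∑ i, biproduct.π (fun _ : Fin r => L) i ≫ smulMod L (t i) := by
      refine biproduct.hom_ext' _ _ fun i => ?_
      rw [biproduct.ι_desc_assoc, kernel.lift_ι, Preadditive.comp_sum, Finset.sum_eq_single i]
      · simp
      · intro k _ hk
        rw [← Category.assoc, biproduct.ι_π_ne _ (Ne.symm hk), zero_comp]
      · simp
    calc (kernel.ι θ).app U.1 (φ.app U.1 s) = (φ ≫ kernel.ι θ).app U.1 s := rfl
      _ = _ := by
        rw [e, app_sum]
        refine Finset.sum_congr rfl fun i _ => ?_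
        show (smulMod L (t i)).app U.1 ((biproduct.π (fun _ : Fin r => L) i).app U.1 s) = _
        rw [hs]
        rfl
  have hS : (ShortComplex.mk (kernel.ι θ) θ (kernel.condition θ)).ShortExact :=
    { exact := ShortComplex.exact_of_f_is_kernel _ (kernelIsKernel θ) }
  have hKS : (ShortComplex.mk (kernel.ι φ) φ (kernel.condition φ)).ShortExact :=
    { exact := ShortComplex.exact_of_f_is_kernel _ (kernelIsKernel φ) }
  have hsurj : ∀ x : Coh.HH X K 1, ∃ z, Cohom.hhMap A φ 1 z = x := fun x =>
    (Cohom.exact₃ (A := A) hKS 1 x).1 (@Subsingleton.elim _ (h2 _ (QCoh.isQuasicoherent_kernel φ)) _ _)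
  -- the first cohomology is divisible by the ideal
  have hle : (⊤ : Submodule A (Coh.HH X L 1)) ≤ Ideal.span (Set.range a) • ⊤ := by
    intro x _
    obtain ⟨k, hk⟩ := (Cohom.exact₂ (A := A) hS 1 x).1 (Subsingleton.elim (α := Coh.HH X P 1) _ _)
    obtain ⟨z, rfl⟩ := hsurj k
    have e : φ ≫ kernel.ι θ = ∑ i, biproduct.π (fun _ : Fin r => L) i ≫ smulMod L (t i) := by
      refine biproduct.hom_ext' _ _ fun i => ?_
      rw [biproduct.ι_desc_assoc, kernel.lift_ι, Preadditive.comp_sum, Finset.sum_eq_single i]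
      · simp
      · intro k _ hk
        rw [← Category.assoc, biproduct.ι_π_ne _ (Ne.symm hk), zero_comp]
      · simp
    rw [← hk, ← HilbObs26.hhMap_comp']
    show Cohom.hhMap A (φ ≫ kernel.ι θ) 1 z ∈ _
    rw [e, CurveRR.hhMap_sum]
    refine Submodule.sum_mem _ fun i _ => ?_
    rw [HilbObs26.hhMap_comp', show Cohom.hhMap A (smulMod L (t i)) 1 (Cohom.hhMap A (biproduct.π _ i) 1 z) =
      a i • Cohom.hhMap A (biproduct.π (fun _ : Fin r => L) i) 1 z from rfl]
    exact Submodule.smul_mem_smul (Ideal.subset_span ⟨i, rfl⟩) trivial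
  haveI := Groth.Agent.S0002.result A X L hL 1
  obtain ⟨b, hb, hb'⟩ := Submodule.exists_sub_one_mem_and_smul_eq_zero_of_fg_of_le_smul _ ⊤
    Module.Finite.fg_top hle
  have hkill : ∀ x : Coh.HH X K 1, b • x = 0 := fun x => by
    obtain ⟨z, rfl⟩ := hsurj x
    have hz0 : b • z = 0 := by
      have e := congrArg (fun ψ => Cohom.hhMap A ψ 1 (b • z)) (biproduct.total (f := fun _ : Fin r => L))
      simp only [CurveRR.hhMap_sum, HilbObs26.hhMap_comp'] at e
      rw [show Cohom.hhMap A (𝟙 (⨁ fun _ : Fin r => L)) 1 (b • z) = b • z by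
        rw [Cohom.hhMap_apply, CategoryTheory.Functor.map_id, Sheaf.H.map_id_apply]] at e
      rw [← e]
      refine Finset.sum_eq_zero fun i _ => ?_
      rw [(Cohom.hhMap A (biproduct.π (fun _ : Fin r => L) i) 1).map_smul, hb' _ trivial, map_zero]
    rw [← map_smul, hz0, map_zero]
  refine Contract29.surjective_of_killed hS b hkill fun z => ?_
  show j.app ⊤ (gOn X b ⊤) • (show Γ((Scheme.Modules.pullback j).obj L, j ⁻¹ᵁ ⊤) from z) = _
  rw [hone b hb]
  exact one_smul _ _

end GrothLib.FibTriv29
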