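import Groth.Agent.Lib.FibTriv29.Lift
import Groth.Agent.Lib.RightAdj22.TopRepApps
import Groth.Agent.Lib.RelVanish.Basic
import Groth.Agent.Lib.RatSing29.BlowUpNormal
import Groth.Agent.Lib.DefAut26.Base
import Groth.Agent.Lib.FunMor20.Supp
import Groth.Agent.Lib.VA.UnitGen
import Groth.Agent.Lib.Contract29.Bundle
import Groth.Agent.Lib.Contract29.Generators
import Groth.Agent.Lib.ParaPair.Basic

/-!
# Invertible modules trivial on fibres without first cohomology are trivial near them
-/

set_option autoImplicit false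
set_option linter.all false
set_option backward.isDefEq.respectTransparency false
set_option maxHeartbeats 800000

universe u

open CategoryTheory CategoryTheory.Limits AlgebraicGeometry Opposite TopologicalSpace
open GrothLib.RatSing29
open GrothLib.InvExt (mres IsGen)

noncomputable section

namespace GrothLib.FibTriv29

variable {X Y : Scheme.{u}} (f : X ⟶ Y) [IsProper f] [IsNoetherian X] [IsNoetherian Y]

/-- No second cohomology over an affine open of the base. -/
theorem subsingleton_H2_preimage (hdim : ∀ y : Y, topologicalKrullDim ↥(f.fiber y) ≤ 1)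
    {V : Y.Opens} (hV : IsAffineOpen V) (K : ((f ⁻¹ᵁ V : X.Opens) : Scheme.{u}).Modules)
    (hK : K.IsQuasicoherent) : Subsingleton (Coh.HH ((f ⁻¹ᵁ V : X.Opens) : Scheme.{u}) K 2) := by
  haveI := hK
  haveI := RpushSupp20.hasInjectiveResolutions X
  let j := (f ⁻¹ᵁ V).ι
  haveI : ((Scheme.Modules.pushforward j).obj K).IsQuasicoherent := QCoh.isQuasicoherent_pushforward j K
  let M : X.Modules := (Scheme.Modules.pushforward j).obj K
  haveI hM : M.IsQuasicoherent := ‹((Scheme.Modules.pushforward j).obj K).IsQuasicoherent›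
  haveI := RelVanish.subsingleton_HHon_of_isZero_Rpush f M 2 hV
    (RightAdj22.isZero_Rpush_of_fibreDim f 1 hdim M hM 2 one_lt_two)
  haveI := FunMor20.isIso_counit_open j
  have e : ((Scheme.Modules.pushforward j).obj K).restrict j ≅ K :=
    (Scheme.Modules.restrictFunctorIsoPullback j).app _ ≪≫
      asIso ((Scheme.Modules.pullbackPushforwardAdjunction j).counit.app K)
  exact CMReg.subsingleton_of_iso e ‹Subsingleton (Coh.HHon X M (f ⁻¹ᵁ V) 2)›

/-- A module trivial on the fibre over a closed point has a generator over a neighbourhood. -/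
theorem exists_gen_of_closed (hdim : ∀ y : Y, topologicalKrullDim ↥(f.fiber y) ≤ 1)
    {y : Y} (hy : IsClosed ({y} : Set Y))
    (hH1 : Subsingleton (Coh.HH (f.fiber y) (Coh.structureModule (f.fiber y)) 1))
    {L : X.Modules} (hL : PicF.IsInvertible L)
    (htriv : Nonempty ((Scheme.Modules.pullback (f.fiberι y)).obj L ≅ Coh.structureModule (f.fiber y))) :
    ∃ (W : Y.Opens) (e : Γ(L, f ⁻¹ᵁ W)), y ∈ W ∧ IsGen L (f ⁻¹ᵁ W) e := by
  obtain ⟨_, ⟨(V : Y.Opens), hV, rfl⟩, hyV, -⟩ :=
    Y.isBasis_affineOpens.exists_subset_of_mem_open (Set.mem_univ y) isOpen_univ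
  have hV : IsAffineOpen V := hV
  let A := Γ(Y, V)
  haveI : IsNoetherianRing A := IsLocallyNoetherian.component_noetherian ⟨V, hV⟩
  let X' : Scheme.{u} := (f ⁻¹ᵁ V : X.Opens)
  let f' : X' ⟶ Spec (CommRingCat.of A) := BCCoh.affBase f hV
  letI : X'.Over (Spec (CommRingCat.of A)) := ⟨f'⟩
  haveI : IsProper (X' ↘ Spec (CommRingCat.of A)) := RelVanish.isProper_affBase f hV
  let ι := (f ⁻¹ᵁ V).ι
  have hyr : ∀ p, f (f.fiberι y p) = y := fun p => by
    have : f.fiberι y p ∈ f ⁻¹' {y} := f.range_fiberι y ▸ ⟨p, rfl⟩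
    exact this
  let j : f.fiber y ⟶ X' := IsOpenImmersion.lift ι (f.fiberι y) (by
    rintro _ ⟨p, rfl⟩
    rw [Scheme.Opens.range_ι]
    show f (f.fiberι y p) ∈ V
    rw [hyr]; exact hyV)
  have hj : j ≫ ι = f.fiberι y := IsOpenImmersion.lift_fac _ _ _
  haveI : IsClosedImmersion (Y.fromSpecResidueField y) := isClosed_singleton_iff_isClosedImmersion.mp hy
  let y' : Spec (Y.residueField y) ⟶ (V : Scheme.{u}) := IsOpenImmersion.lift V.ι (Y.fromSpecResidueField y) (by
    rw [Scheme.Opens.range_ι, Scheme.range_fromSpecResidueField]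
    exact Set.singleton_subset_iff.2 hyV)
  have hy' : y' ≫ V.ι = Y.fromSpecResidueField y := IsOpenImmersion.lift_fac _ _ _
  haveI : IsClosedImmersion (y' ≫ V.ι) := hy' ▸ inferInstance
  haveI : IsClosedImmersion y' := IsClosedImmersion.of_comp y' V.ι
  let i0 : Spec (Y.residueField y) ⟶ Spec (CommRingCat.of A) := y' ≫ hV.isoSpec.hom
  have hpb : IsPullback j (f.fiberToSpecResidueField y) f' i0 := by
    have h1 : IsPullback (j ≫ ι) (f.fiberToSpecResidueField y) f (y' ≫ V.ι) := by
      rw [hj, hy']; exact IsPullback.of_hasPullback _ _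
    have h2 : IsPullback j (f.fiberToSpecResidueField y) (f ∣_ V) y' := by
      refine IsPullback.of_right h1 ?_ (isPullback_morphismRestrict f V).flip
      rw [← cancel_mono V.ι, Category.assoc, morphismRestrict_ι, ← Category.assoc, hj, Category.assoc, hy']
      exact pullback.condition
    have h3 : IsPullback (𝟙 X') (f ∣_ V) f' hV.isoSpec.hom :=
      IsPullback.of_horiz_isIso ⟨by rw [Category.id_comp]⟩
    simpa [i0] using h2.paste_horiz h3
  haveI : IsClosedImmersion i0 := inferInstanceAs (IsClosedImmersion (y' ≫ hV.isoSpec.hom))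
  haveI : IsClosedImmersion j := MorphismProperty.of_isPullback hpb.flip ‹IsClosedImmersion i0›
  let ψ : CommRingCat.of A ⟶ Y.residueField y := Spec.preimage i0
  have hψ : Spec.map ψ = i0 := Spec.map_preimage i0
  obtain ⟨r, a, ha⟩ := Submodule.fg_iff_exists_fin_generating_family.1 (IsNoetherian.noetherian (RingHom.ker ψ.hom))
  have hI : GenBy j.ker a := by
    have hk : j.ker = (Curv2.idealSheaf A (RingHom.ker ψ.hom)).comap f' := by
      have h0 : i0.ker = Curv2.idealSheaf A (RingHom.ker ψ.hom) := by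
        rw [← hψ, show Spec.map ψ = Spec.map (CommRingCat.ofHom ψ.hom) from rfl]
        exact DefAut26.ker_specMap ψ.hom
      rw [← h0, ← Scheme.IdealSheafData.ker_fst_of_isClosedImmersion, ← hpb.isoPullback_hom_fst,
        Scheme.Hom.ker_comp_of_isIso]
    rw [hk]
    exact genBy_comap (X := X') a ha.symm
  have hone : ∀ b : A, b - 1 ∈ Ideal.span (Set.range a) → j.app ⊤ (gOn X' b ⊤) = 1 := by
    intro b hb
    have hb' : ψ b = 1 := by
      have h : b - 1 ∈ RingHom.ker ψ.hom := ha ▸ hb
      rw [RingHom.mem_ker, map_sub, map_one, sub_eq_zero] at h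
      exact h
    have h1 : j.appTop (f'.appTop ((Scheme.ΓSpecIso (CommRingCat.of A)).inv b)) =
        (f.fiberToSpecResidueField y).appTop (i0.appTop ((Scheme.ΓSpecIso (CommRingCat.of A)).inv b)) := by
      rw [← CommRingCat.comp_apply, ← Scheme.Hom.comp_appTop, hpb.w, Scheme.Hom.comp_appTop, CommRingCat.comp_apply]
    have h2 : i0.appTop ((Scheme.ΓSpecIso (CommRingCat.of A)).inv b) = 1 := by
      rw [← hψ]
      have := congrArg (fun χ : CommRingCat.of A ⟶ Γ(Spec (Y.residueField y), ⊤) => χ b)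
        (Scheme.ΓSpecIso_inv_naturality ψ)
      simp only [CommRingCat.comp_apply] at this
      rw [← this, hb', map_one]
    have h3 : gOn X' b ⊤ = f'.appTop ((Scheme.ΓSpecIso (CommRingCat.of A)).inv b) := by
      rw [Contract29.gOn_top]
      rfl
    rw [h3]
    exact h1.trans (by rw [h2]; exact map_one _)
  obtain ⟨e₀⟩ := htriv
  let L' : X'.Modules := L.restrict ι
  have hL' : PicF.IsInvertible L' :=
    ParaPair.isInvertible_of_iso ((Scheme.Modules.restrictFunctorIsoPullback ι).app L)
      (Ample.isInvertible_pullback ι hL)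
  let eF : (Scheme.Modules.pullback j).obj L' ≅ Coh.structureModule (f.fiber y) :=
    (Scheme.Modules.pullback j).mapIso ((Scheme.Modules.restrictFunctorIsoPullback ι).app L) ≪≫
      (Scheme.Modules.pullbackComp j ι).app L ≪≫ (Scheme.Modules.pullbackCongr hj).app L ≪≫ e₀
  have hH : Subsingleton (Coh.HH X' ((Scheme.Modules.pushforward j).obj ((Scheme.Modules.pullback j).obj L')) 1) := by
    haveI : ((Scheme.Modules.pullback j).obj L').IsQuasicoherent :=
      (Euler.isCoh_of_isInvertible (Ample.isInvertible_pullback j hL')).1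
    haveI : Subsingleton (Coh.HH (f.fiber y) ((Scheme.Modules.pullback j).obj L') 1) :=
      CMReg.subsingleton_of_iso eF.symm hH1
    obtain ⟨q⟩ := Cohom.nonempty_HH_equiv_pushforward j ((Scheme.Modules.pullback j).obj L') 1
    exact q.toEquiv.symm.subsingleton
  have hsur := surjective_unit_app (X := X') (subsingleton_H2_preimage f hdim hV) j a hI hone
    (Euler.isCoh_of_isInvertible hL') hH
  have hgen : IsGen ((Scheme.Modules.pullback j).obj L') (j ⁻¹ᵁ ⊤) (eF.inv.app ⊤ (1 : Γ(f.fiber y, ⊤))) :=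
    (InvExt.isGen_one ⊤).map eF.inv fun W _ =>
      ConcreteCategory.bijective_of_isIso ((Scheme.Modules.toPresheaf _).map eF.inv |>.app (op W))
  obtain ⟨x, hx⟩ := hsur (eF.inv.app ⊤ (1 : Γ(f.fiber y, ⊤)))
  have hx' : IsGen ((Scheme.Modules.pullback j).obj L') (j ⁻¹ᵁ ⊤)
      (Contract29.down j (((Scheme.Modules.pullbackPushforwardAdjunction j).unit.app L').app ⊤ x)) := by
    rw [show Contract29.down j (((Scheme.Modules.pullbackPushforwardAdjunction j).unit.app L').app ⊤ x) =
      eF.inv.app ⊤ (1 : Γ(f.fiber y, ⊤)) from hx]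
    exact hgen
  -- a neighbourhood in `X`
  choose G hGp hG using Contract29.exists_gen_nhd_of_image j hL' _ x hx'
  let O : X.Opens := ι ''ᵁ (⨆ p, G p)
  have hfib : ∀ z : X, f z = y → z ∈ O := by
    intro z hz
    obtain ⟨p, rfl⟩ : z ∈ Set.range (f.fiberι y) := by rw [f.range_fiberι]; exact hz
    refine ⟨j p, Opens.mem_iSup.2 ⟨p, hGp p⟩, ?_⟩
    rw [← hj]; rfl
  let C : Set Y := f '' (O : Set X)ᶜ
  have hC : IsClosed C := f.isClosedMap _ O.2.isClosed_compl
  let W : Y.Opens := V ⊓ ⟨Cᶜ, hC.isOpen_compl⟩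
  have hWO : f ⁻¹ᵁ W ≤ O := fun z hz => by
    by_contra hzO
    exact hz.2 ⟨z, hzO, rfl⟩
  have hGs : IsGen L' (⨆ p, G p) (mres L' le_top x) := by
    refine InvExt.isGen_of_cover G (fun p => le_iSup G p) le_rfl fun p => ?_
    rw [InvExt.mres_mres]
    exact hG p
  exact ⟨W, mres L hWO (show Γ(L, O) from mres L' le_top x), ⟨hyV, fun ⟨z, hzO, hz⟩ => hzO (hfib z hz)⟩,
    (InvExt.isGen_image ι L hGs).restrict hWO⟩

end GrothLib.FibTriv29
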